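import Cfsg.Agent.Lib.Recog.TwoTimesAlt.FourMain

/-!
Owner: helper11. Walter, field part with `q₀ = 3`: a group with an involution centraliser `Z₂ × A₄` has order
`168` or `1512`, and a subgroup of order seven with an element of order three acting on it nontrivially.
-/

set_option autoImplicit false
set_option linter.all false

namespace CfsgLib.Walter.Field.ThreeField

open Subgroup
open CfsgLib.Recog.TwoTimesAlt
open CfsgLib.Recog.TwoTimesAlt.Four (el)

universe u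

variable {X : Type u} [Group X] [Finite X] (D : Four X)
include D

theorem card_cases : Nat.card X = 168 ∨ Nat.card X = 1512 := by
  classical
  by_cases hs : Group.IsSolvable X
  swap
  · exact Or.inr (D.card_G hs)
  left
  -- a normal abelian subgroup
  obtain ⟨n, hn⟩ := (Group.isSolvable_def X).1 hs
  have hJ := D.J_ne_one
  have hex : ∃ n, derivedSeries X n = ⊥ := ⟨n, hn⟩
  set k := Nat.find hex with hk
  have hk0 : k ≠ 0 := fun e => by
    have h := Nat.find_spec hex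
    rw [← hk, e, derivedSeries_zero] at h
    exact hJ (mem_bot.1 (h ▸ mem_top D.J))
  set N := derivedSeries X (k - 1) with hN
  have hN1 : N ≠ ⊥ := Nat.find_min hex (show k - 1 < k by omega)
  have hNn : N.Normal := derivedSeries_normal X _
  have hNc : ∀ a ∈ N, ∀ b ∈ N, a * b = b * a := fun a ha b hb => by
    have h : ⁅N, N⁆ = ⊥ := by
      rw [hN, ← derivedSeries_succ, Nat.sub_add_cancel (Nat.one_le_iff_ne_zero.2 hk0)]
      exact Nat.find_spec hex
    exact (mem_centralizer_iff.1 (commutator_eq_bot_iff_le_centralizer.1 h ha) b hb).symm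
  haveI : Fact (Nat.Prime 2) := ⟨Nat.prime_two⟩
  have h2 : 2 ∣ Nat.card N := by
    by_contra h
    exact hN1 (D.odd_trivial (K := N) (fun x _ => by rw [normalizer_eq_top_iff.2 hNn]; exact mem_top x) h)
  obtain ⟨⟨x, hxN⟩, hx2⟩ := exists_prime_orderOf_dvd_card' (G := N) 2 h2
  rw [Subgroup.orderOf_mk] at hx2
  -- its involutions
  let T : Subgroup X :=
    { carrier := {y | y ∈ N ∧ y * y = 1}
      one_mem' := ⟨one_mem _, one_mul 1⟩
      mul_mem' := fun {a b} ha hb => ⟨mul_mem ha.1 hb.1, by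
        calc a * b * (a * b) = a * (b * a) * b := by group
          _ = a * (a * b) * b := by rw [hNc b hb.1 a ha.1]
          _ = (a * a) * (b * b) := by group
          _ = 1 := by rw [ha.2, hb.2, one_mul]⟩
      inv_mem' := fun {a} ha => ⟨inv_mem ha.1, by rw [← mul_inv_rev, ha.2, inv_one]⟩ }
  have hTn : T.Normal := ⟨fun y hy g => ⟨hNn.conj_mem y hy.1 g, by
    calc g * y * g⁻¹ * (g * y * g⁻¹) = g * (y * y) * g⁻¹ := by group
      _ = 1 := by rw [hy.2]; group⟩⟩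
  have hxT : x ∈ T := ⟨hxN, by rw [← pow_two, ← hx2, pow_orderOf_eq_one]⟩
  have hJT : D.J ∈ T := by
    obtain ⟨c, hc⟩ := D.conj_J hx2
    have h := hTn.conj_mem x hxT c⁻¹
    rwa [← hc, show c⁻¹ * (c * D.J * c⁻¹) * c⁻¹⁻¹ = D.J by group] at h
  have hET : D.E ≤ T := fun e he => by
    by_cases h1 : e = 1
    · rw [h1]; exact one_mem _
    · obtain ⟨c, rfl⟩ := D.conj_J (D.orderOf_mem_E he h1)
      exact hTn.conj_mem _ hJT c
  have hT2 : IsPGroup 2 T := fun y => ⟨1, Subtype.ext (by rw [pow_one, pow_two]; exact y.2.2)⟩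
  have hTE : T = D.E := by
    rw [← D.P_eq] at hET ⊢
    exact D.P.is_maximal' hT2 hET
  have hH : D.H = ⊤ := normalizer_eq_top_iff.2 (hTE ▸ hTn)
  rw [← Nat.card_congr Subgroup.topEquiv.toEquiv, ← hH, D.card_H]

/-- A subgroup of order seven and an element of order three acting on it nontrivially. -/
theorem exists_seven_three : ∃ (P : Subgroup X) (c : X), Nat.card P = 7 ∧ (∀ a ∈ P, c * a * c⁻¹ ∈ P) ∧
    c ^ 3 = 1 ∧ ∃ a ∈ P, c * a ≠ a * c := by
  classical
  haveI : Fact (Nat.Prime 7) := ⟨by norm_num⟩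
  obtain ⟨⟨p, hpH⟩, hp⟩ := exists_prime_orderOf_dvd_card' (G := D.H) 7 (by rw [D.card_H]; norm_num)
  rw [Subgroup.orderOf_mk] at hp
  set P := zpowers p with hP
  have hPc : Nat.card P = 7 := by rw [hP, Nat.card_zpowers, hp]
  have hPH : P ≤ D.H := zpowers_le.2 hpH
  set N := normalizer (P : Set X) ⊓ D.H with hN
  have hNc : Nat.card N = 21 := D.card_normalizer_H hPc hPH
  have hdisj : ∀ e ∈ D.E, e ∈ N → e = 1 := fun e he heN => by
    by_contra h1
    have h2 := D.orderOf_mem_E he h1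
    have hd := Subgroup.orderOf_dvd_natCard N heN
    rw [h2, hNc] at hd
    norm_num at hd
  -- `H = E N`
  have hbij : Function.Bijective (fun x : D.E × N => (⟨(x.1 : X) * x.2,
      mul_mem (D.E_le_H x.1.2) x.2.2.2⟩ : D.H)) := by
    refine (Nat.bijective_iff_injective_and_card _).2 ⟨?_, ?_⟩
    · rintro ⟨⟨e, he⟩, ⟨n, hn⟩⟩ ⟨⟨e', he'⟩, ⟨n', hn'⟩⟩ h
      have h' : e * n = e' * n' := congrArg Subtype.val h
      have h1 : e'⁻¹ * e = n' * n⁻¹ := by
        rw [eq_mul_inv_iff_mul_eq, mul_assoc, h', inv_mul_cancel_left]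
      have h2 := hdisj _ (mul_mem (inv_mem he') he) (h1 ▸ mul_mem hn' (inv_mem hn))
      rw [inv_mul_eq_one] at h2
      subst h2
      have h3 : n = n' := mul_left_cancel h'
      subst h3
      rfl
    · rw [Nat.card_prod, D.card_E, hNc, D.card_H]
  -- an element of order three centralising `J`
  obtain ⟨m, hm3, hmm⟩ : ∃ m : Mdl4, m ^ 3 = 1 ∧ m * m ≠ 1 := by decide +kernel
  set y := el D m with hy
  have hyH : y ∈ D.H := D.cent_le_norm (D.el_mem m)
  obtain ⟨⟨⟨e, he⟩, ⟨n, hn⟩⟩, hen⟩ := hbij.2 ⟨y, hyH⟩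
  have hen' : e * n = y := congrArg Subtype.val hen
  have hn' : n = e⁻¹ * y := by rw [← hen', inv_mul_cancel_left]
  have hyJ : y * D.J = D.J * y := mem_centralizer_singleton_iff.1 (D.el_mem m)
  have hnJ : n * D.J = D.J * n := by
    rw [hn', mul_assoc, hyJ, ← mul_assoc, D.E_comm (inv_mem he) D.J_mem_E, mul_assoc]
  have hnot : ¬ ∀ z ∈ D.E, n * z = z * n := fun hall => by
    have hyE : y ∈ D.E := hen' ▸ mul_mem he (D.cent_E_le hall)
    exact hmm ((D.el_mem_E).1 hyE)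
  have hn3 : n ^ 3 = 1 := by
    have hN' : (D.E.subgroupOf D.H).Normal :=
      ⟨fun a ha g => mem_subgroupOf.2 ((mem_normalizer_iff.1 g.2 (a : X)).1 (mem_subgroupOf.1 ha))⟩
    set π := QuotientGroup.mk' (D.E.subgroupOf D.H)
    have hπ : π ⟨n, hn.2⟩ = π ⟨y, hyH⟩ := by
      refine QuotientGroup.eq.2 (mem_subgroupOf.2 ?_)
      show n⁻¹ * y ∈ D.E
      rw [← hen', ← mul_assoc]
      exact (mem_normalizer_iff''.1 hn.2 e).1 he
    have h3E : n ^ 3 ∈ D.E := by
      have h1 : π (⟨n, hn.2⟩ ^ 3) = 1 := by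
        rw [map_pow, hπ, ← map_pow, show (⟨y, hyH⟩ : D.H) ^ 3 = 1 from Subtype.ext (by
          push_cast; rw [hy, ← map_pow, hm3, map_one]), map_one]
      have h2 := mem_subgroupOf.1 ((QuotientGroup.eq_one_iff _).1 h1)
      simpa using h2
    exact hdisj _ h3E (pow_mem hn 3)
  refine ⟨P, n, hPc, fun a ha => (mem_normalizer_iff.1 hn.1 a).1 ha, hn3, p, mem_zpowers p, fun hnp => hnot ?_⟩
  -- the fixed points of `n` on `E` are invariant under `p`
  have hpi : ∀ i : Fin 7, p ^ (i : ℕ) * D.J * (p ^ (i : ℕ))⁻¹ ∈ D.E ∧ p ^ (i : ℕ) * D.J * (p ^ (i : ℕ))⁻¹ ≠ 1 :=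
    fun i => ⟨(mem_normalizer_iff.1 (pow_mem hpH _) _).1 D.J_mem_E,
      fun e => D.J_ne_one (conj_eq_one_iff.1 e)⟩
  have h7 : p ^ 7 = 1 := by rw [← orderOf_dvd_iff_pow_eq_one, hp]
  have hb : Function.Bijective (fun i : Fin 7 => (⟨_, hpi i⟩ : {x : X // x ∈ D.E ∧ x ≠ 1})) := by
    refine (Nat.bijective_iff_injective_and_card _).2 ⟨fun i j hij => ?_, by rw [Nat.card_fin, D.card_E_ne]⟩
    have h : p ^ (i : ℕ) * D.J * (p ^ (i : ℕ))⁻¹ = p ^ (j : ℕ) * D.J * (p ^ (j : ℕ))⁻¹ := congrArg Subtype.val hij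
    by_contra hne
    set q := (p ^ (j : ℕ))⁻¹ * p ^ (i : ℕ) with hq
    have hqJ : q * D.J = D.J * q := by
      rw [hq, ← mul_inv_eq_iff_eq_mul]
      calc (p ^ (j : ℕ))⁻¹ * p ^ (i : ℕ) * D.J * ((p ^ (j : ℕ))⁻¹ * p ^ (i : ℕ))⁻¹
          = (p ^ (j : ℕ))⁻¹ * (p ^ (i : ℕ) * D.J * (p ^ (i : ℕ))⁻¹) * p ^ (j : ℕ) := by group
        _ = D.J := by rw [h]; group
    have hq7 : q ^ 7 = 1 := by
      have hc : Commute (p ^ (j : ℕ))⁻¹ (p ^ (i : ℕ)) := ((Commute.refl p).pow_pow _ _).inv_left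
      rw [hq, hc.mul_pow, inv_pow, ← pow_mul, ← pow_mul, mul_comm _ 7, mul_comm _ 7, pow_mul, pow_mul, h7,
        one_pow, one_pow, inv_one, one_mul]
    have hq1 : q ≠ 1 := fun e => by
      rw [hq, inv_mul_eq_one] at e
      exact hne (Fin.ext (pow_injOn_Iio_orderOf (by simp [hp, j.2]) (by simp [hp, i.2]) e).symm)
    exact D.not_commute (orderOf_eq_prime hq7 hq1) D.hJ hqJ
  intro z hz
  by_cases hz1 : z = 1
  · rw [hz1, mul_one, one_mul]
  obtain ⟨i, hi⟩ := hb.2 ⟨z, hz, hz1⟩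
  have hi' : p ^ (i : ℕ) * D.J * (p ^ (i : ℕ))⁻¹ = z := congrArg Subtype.val hi
  rw [← hi']
  have hc : Commute n (p ^ (i : ℕ)) := (show Commute n p from hnp).pow_right _
  exact ((hc.mul_right (show Commute n D.J from hnJ)).mul_right hc.inv_right).eq

end CfsgLib.Walter.Field.ThreeField
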